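import Mathlib
import Cfsg.Agent.H453.OddM.UnB

/-!
# S4785, PART E1 of the unitary transvection theorem: the unital counting lemma (helper683)

A set `Δ` of isotropic vectors, closed under scalars and under "isotropic points of hyperbolic lines joining two
members", which contains three vectors with non-degenerate span `U` contains all isotropic vectors of `U`.
-/

set_option autoImplicit false

namespace Cfsg.Agent.H683.OddM

open Cfsg Module Cfsg.Agent.LieClassical.HermBasic Cfsg.Agent.H453.OddM.Un

variable {F : Type*} [Field F] [Fintype F] {n q : ℕ}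

theorem ho_swap (hF : Fintype.card F = q ^ 2) (u v : Fin n → F) : ho q v u = ho q u v ^ q := herm_swap hF u v

/-- the Gram determinant of three isotropic vectors -/
abbrev gd (q : ℕ) (x y z : Fin n → F) : F :=
  ho q x y * ho q y z * ho q z x + ho q x z * ho q z y * ho q y x

theorem coef_zero {x y z : Fin n → F} (hx : ho q x x = 0) (hy : ho q y y = 0) (hz : ho q z z = 0)
    (hdet : gd q x y z ≠ 0) {α β γ : F} (h1 : ho q (α • x + β • y + γ • z) x = 0)
    (h2 : ho q (α • x + β • y + γ • z) y = 0) (h3 : ho q (α • x + β • y + γ • z) z = 0) :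
    α = 0 ∧ β = 0 ∧ γ = 0 := by
  rw [ho_add_left, ho_add_left, ho_smul_left, ho_smul_left, ho_smul_left] at h1 h2 h3
  rw [hx] at h1
  rw [hy] at h2
  rw [hz] at h3
  refine ⟨?_, ?_, ?_⟩
  · have : α * gd q x y z = 0 := by
      linear_combination (ho q y z * ho q z x) * h2 + (ho q z y * ho q y x) * h3 - (ho q z y * ho q y z) * h1
    exact (mul_eq_zero.1 this).resolve_right hdet
  · have : β * gd q x y z = 0 := by
      linear_combination (ho q x y * ho q z x) * h3 + (ho q x z * ho q z y) * h1 - (ho q x z * ho q z x) * h2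
    exact (mul_eq_zero.1 this).resolve_right hdet
  · have : γ * gd q x y z = 0 := by
      linear_combination (ho q x y * ho q y z) * h1 + (ho q x z * ho q y x) * h2 - (ho q x y * ho q y x) * h3
    exact (mul_eq_zero.1 this).resolve_right hdet

theorem coef_zero' {x y z : Fin n → F} (hx : ho q x x = 0) (hy : ho q y y = 0) (hz : ho q z z = 0)
    (hdet : gd q x y z ≠ 0) {α β γ : F} (h : α • x + β • y + γ • z = 0) : α = 0 ∧ β = 0 ∧ γ = 0 := by
  apply coef_zero hx hy hz hdet <;> rw [h, ho_zero_left]

/-- `x` is not orthogonal to the isotropic points of the line `<y, z>` -/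
theorem ho_line_ne (hF : Fintype.card F = q ^ 2) {x y z : Fin n → F} (hdet : gd q x y z ≠ 0) {σ : F}
    (hσ : σ * ho q z y + σ ^ q * ho q y z = 0) : ho q x y + σ ^ q * ho q x z ≠ 0 := by
  intro h
  have h1 : ho q x y = - (σ ^ q * ho q x z) := eq_neg_of_add_eq_zero_left h
  have h2 : ho q y x = - (σ * ho q z x) := by
    rw [ho_swap hF x y, h1, neg_pow_q hF, mul_pow, pow_q_pow_q hF, ← ho_swap hF x z]
  apply hdet
  unfold gd
  rw [h1, h2]
  linear_combination (- (ho q x z * ho q z x)) * hσ

/-- an isotropic vector of the span orthogonal to `x` is a multiple of `x` -/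
theorem eq_smul_of_perp (hF : Fintype.card F = q ^ 2) {x y z : Fin n → F} (hx : ho q x x = 0) (hy : ho q y y = 0)
    (hz : ho q z z = 0) (hdet : gd q x y z ≠ 0) {α β γ : F}
    (hw : ho q (α • x + β • y + γ • z) (α • x + β • y + γ • z) = 0)
    (hwx : ho q (α • x + β • y + γ • z) x = 0) : α • x + β • y + γ • z = α • x := by
  have hwx' : ho q x (α • x + β • y + γ • z) = 0 := by
    rw [ho_swap hF (α • x + β • y + γ • z) x, hwx, zero_pow_q hF]
  have h1 : β * ho q y x + γ * ho q z x = 0 := by
    rw [ho_add_left, ho_add_left, ho_smul_left, ho_smul_left, ho_smul_left, hx] at hwx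
    linear_combination hwx
  have h2 : β * γ ^ q * ho q y z + γ * β ^ q * ho q z y = 0 := by
    have e1 : ho q (α • x + β • y + γ • z) (α • x + β • y + γ • z) =
        ho q (β • y + γ • z) (β • y + γ • z) := by
      have e2 : α • x + β • y + γ • z = α • x + (β • y + γ • z) := by rw [add_assoc]
      have e3 : ho q x (β • y + γ • z) = 0 := by
        rw [e2, ho_add_right hF, ho_smul_right, hx, mul_zero, zero_add] at hwx'
        exact hwx'
      have e4 : ho q (β • y + γ • z) x = 0 := by
        rw [ho_swap hF x, e3, zero_pow_q hF]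
      rw [e2]
      generalize β • y + γ • z = p at e3 e4
      rw [ho_add_left, ho_add_right hF, ho_add_right hF, ho_smul_left, ho_smul_left, ho_smul_right, hx,
        ho_smul_right, e3, e4]
      ring
    rw [e1, ho_add_left, ho_add_right hF, ho_add_right hF, ho_smul_left, ho_smul_left, ho_smul_left, ho_smul_left,
      ho_smul_right, ho_smul_right, ho_smul_right, ho_smul_right, hy, hz] at hw
    linear_combination hw
  have hyx : ho q y x ≠ 0 := by
    intro h0
    have h0' : ho q x y = 0 := by rw [ho_swap hF y x, h0, zero_pow_q hF]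
    apply hdet
    unfold gd
    rw [h0, h0']; ring
  by_cases hβ : β = 0
  · subst hβ
    have hzx : ho q z x ≠ 0 := by
      intro h0
      have h0' : ho q x z = 0 := by rw [ho_swap hF z x, h0, zero_pow_q hF]
      apply hdet
      unfold gd
      rw [h0, h0']; ring
    rw [zero_mul, zero_add] at h1
    have hγ := (mul_eq_zero.1 h1).resolve_right hzx
    rw [hγ, zero_smul, zero_smul, add_zero, add_zero]
  · exfalso
    have hβq : β ^ q ≠ 0 := fun h => hβ ((pow_q_eq_zero hF).1 h)
    refine ho_line_ne hF hdet (σ := γ / β) ?_ ?_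
    · rw [div_pow]
      field_simp
      linear_combination h2
    · have h3 : (β * ho q y x + γ * ho q z x) ^ q = 0 := by rw [h1, zero_pow_q hF]
      rw [add_pow_q hF, mul_pow, mul_pow, ← ho_swap hF y x, ← ho_swap hF z x] at h3
      rw [div_pow]
      field_simp
      linear_combination h3

/-- the functional `h(·, v)` -/
def hL (q : ℕ) (v : Fin n → F) : (Fin n → F) →ₗ[F] F where
  toFun u := ho q u v
  map_add' a b := ho_add_left a b v
  map_smul' c a := ho_smul_left c a v

theorem ho_line_self (hF : Fintype.card F = q ^ 2) {p x : Fin n → F} (hp : ho q p p = 0) (hx : ho q x x = 0) (t : F) :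
    ho q (p + t • x) (p + t • x) = t ^ q * ho q p x + t * ho q x p := by
  rw [ho_add_left, ho_add_right hF, ho_add_right hF, ho_smul_left, ho_smul_left, ho_smul_right, ho_smul_right, hp, hx]
  ring

/-- **The unital counting lemma.** -/
theorem unital (hF : Fintype.card F = q ^ 2) {Δ : (Fin n → F) → Prop}
    (hiso : ∀ x, Δ x → x ≠ 0 ∧ ho q x x = 0) (hsm : ∀ x (s : F), s ≠ 0 → Δ x → Δ (s • x))
    (hline : ∀ x y (s : F), Δ x → Δ y → ho q x y ≠ 0 → ho q (x + s • y) (x + s • y) = 0 → Δ (x + s • y))
    {x y z : Fin n → F} (hx : Δ x) (hy : Δ y) (hz : Δ z)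
    (hdet : ho q x y * ho q y z * ho q z x + ho q x z * ho q z y * ho q y x ≠ 0)
    {w : Fin n → F} (hw : w ∈ Submodule.span F {x, y, z}) (hw0 : w ≠ 0) (hww : ho q w w = 0) : Δ w := by
  classical
  by_contra hwΔ
  have hxx := (hiso x hx).2
  have hyy := (hiso y hy).2
  have hzz := (hiso z hz).2
  have hdet' : gd q x y z ≠ 0 := hdet
  have hcw : ∀ s : F, s ≠ 0 → ¬ Δ (s • w) := by
    intro s hs h
    apply hwΔ
    have := hsm _ s⁻¹ (inv_ne_zero hs) h
    rwa [smul_smul, inv_mul_cancel₀ hs, one_smul] at this
  -- `h(w, x) ≠ 0`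
  have hwx : ho q w x ≠ 0 := by
    intro h0
    obtain ⟨α, β, γ, rfl⟩ := Submodule.mem_span_triple.1 hw
    have h1 := eq_smul_of_perp hF hxx hyy hzz hdet' hww h0
    have hα : α ≠ 0 := by
      rintro rfl
      rw [h1, zero_smul] at hw0
      exact hw0 rfl
    apply hwΔ
    rw [h1]
    exact hsm x α hα hx
  have hxw : ho q x w ≠ 0 := by
    intro h0
    apply hwx
    rw [ho_swap hF x w, h0, zero_pow_q hF]
  set U : Submodule F (Fin n → F) := Submodule.span F {x, y, z} with hU
  have hxU : x ∈ U := Submodule.subset_span (by simp)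
  have hyU : y ∈ U := Submodule.subset_span (by simp)
  have hzU : z ∈ U := Submodule.subset_span (by simp)
  have hfr : Module.finrank F U = 3 := by
    have h1 : LinearIndependent F ![x, y, z] := by
      rw [Fintype.linearIndependent_iff]
      intro g hg
      rw [Fin.sum_univ_three] at hg
      obtain ⟨h1, h2, h3⟩ := coef_zero' hxx hyy hzz hdet' hg
      intro i
      fin_cases i
      · exact h1
      · exact h2
      · exact h3
    have h2 := finrank_span_eq_card h1
    rw [Matrix.range_cons, Matrix.range_cons, Matrix.range_cons, Matrix.range_empty, Set.union_empty,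
      Fintype.card_fin] at h2
    rw [hU]
    exact h2
  -- the third vector
  obtain ⟨e, he0, heU, hew, hex⟩ : ∃ e : Fin n → F, e ≠ 0 ∧ e ∈ U ∧ ho q e w = 0 ∧ ho q e x = 0 := by
    have h := LinearMap.ker_ne_bot_of_finrank_lt (f := ((hL q w).prod (hL q x)).comp U.subtype) (by
      rw [Module.finrank_prod, Module.finrank_self, hfr]; norm_num)
    obtain ⟨v, hv, hv0⟩ := Submodule.exists_mem_ne_zero_of_ne_bot h
    rw [LinearMap.mem_ker] at hv
    exact ⟨v, fun h => hv0 (Subtype.ext h), v.2, congrArg Prod.fst hv, congrArg Prod.snd hv⟩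
  have hee : ho q e e ≠ 0 := by
    intro h0
    obtain ⟨α, β, γ, rfl⟩ := Submodule.mem_span_triple.1 heU
    have h1 := eq_smul_of_perp hF hxx hyy hzz hdet' h0 hex
    rw [h1] at hew he0
    rw [ho_smul_left] at hew
    rcases mul_eq_zero.1 hew with h2 | h2
    · exact he0 (by rw [h2, zero_smul])
    · exact hxw h2
  have hxe : ho q x e = 0 := by rw [ho_swap hF e x, hex, zero_pow_q hF]
  have hwe : ho q w e = 0 := by rw [ho_swap hF e w, hew, zero_pow_q hF]
  have hbasis : ∀ v ∈ U, ∃ α β γ : F, v = α • w + β • x + γ • e := by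
    have h1 : LinearIndependent F ![w, x, e] := by
      rw [Fintype.linearIndependent_iff]
      intro g hg
      rw [Fin.sum_univ_three] at hg
      change g 0 • w + g 1 • x + g 2 • e = 0 at hg
      have h2 : g 1 = 0 := by
        have := congrArg (fun v => ho q v w) hg
        simp only [ho_add_left, ho_smul_left, hww, hew, ho_zero_left] at this
        have h3 : g 1 * ho q x w = 0 := by linear_combination this
        exact (mul_eq_zero.1 h3).resolve_right hxw
      have h3 : g 0 = 0 := by
        have := congrArg (fun v => ho q v x) hg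
        simp only [ho_add_left, ho_smul_left, hxx, hex, ho_zero_left] at this
        have h3 : g 0 * ho q w x = 0 := by linear_combination this
        exact (mul_eq_zero.1 h3).resolve_right hwx
      have h4 : g 2 = 0 := by
        rw [h2, h3, zero_smul, zero_smul, zero_add, zero_add] at hg
        exact (smul_eq_zero.1 hg).resolve_right he0
      intro i
      fin_cases i
      · exact h3
      · exact h2
      · exact h4
    have h2 := finrank_span_eq_card h1
    rw [Matrix.range_cons, Matrix.range_cons, Matrix.range_cons, Matrix.range_empty, Set.union_empty,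
      Fintype.card_fin] at h2
    have h3 : Submodule.span F {w, x, e} ≤ U := by
      rw [Submodule.span_le]
      rintro v (rfl | rfl | rfl)
      · exact hw
      · exact hxU
      · exact heU
    have h4 : Submodule.span F {w, x, e} = U := Submodule.eq_of_le_of_finrank_eq h3 (by rw [hfr]; exact h2)
    intro v hv
    rw [← h4] at hv
    obtain ⟨α, β, γ, h⟩ := Submodule.mem_span_triple.1 hv
    exact ⟨α, β, γ, h.symm⟩
  have lemR : ∀ v ∈ U, ho q v w = 0 → ho q v e = 0 → ∃ α : F, v = α • w := by
    intro v hv h1 h2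
    obtain ⟨α, β, γ, rfl⟩ := hbasis v hv
    simp only [ho_add_left, ho_smul_left, hww, hew, hwe, hxe] at h1 h2
    have h3 : β = 0 := by
      have : β * ho q x w = 0 := by linear_combination h1
      exact (mul_eq_zero.1 this).resolve_right hxw
    have h4 : γ = 0 := by
      have : γ * ho q e e = 0 := by linear_combination h2
      exact (mul_eq_zero.1 this).resolve_right hee
    exact ⟨α, by rw [h3, h4, zero_smul, zero_smul, add_zero, add_zero]⟩
  have lemS : ∀ v ∈ U, ho q v v = 0 → ho q v w = 0 → ∃ α : F, v = α • w := by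
    intro v hv h1 h2
    obtain ⟨α, β, γ, rfl⟩ := hbasis v hv
    have h3 : β = 0 := by
      simp only [ho_add_left, ho_smul_left, hww, hew] at h2
      have : β * ho q x w = 0 := by linear_combination h2
      exact (mul_eq_zero.1 this).resolve_right hxw
    subst h3
    simp only [ho_add_left, ho_smul_left, ho_add_right hF, ho_smul_right, hww, hew, hwe, zero_mul, zero_smul,
      add_zero, mul_zero, zero_add] at h1
    have h4 : γ * γ ^ q = 0 := by
      rcases mul_eq_zero.1 h1 with h5 | h5
      · rw [h5, mul_zero]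
      · rcases mul_eq_zero.1 h5 with h6 | h6
        · rw [h6, zero_mul]
        · exact absurd h6 hee
    have h5 := (norm_eq_zero hF).1 h4
    exact ⟨α, by rw [h5, zero_smul, zero_smul, add_zero, add_zero]⟩
  -- the parameters
  obtain ⟨ι, hι0, hι⟩ := exists_trace_zero_ne hF
  have hιq : ι ^ q = - ι := eq_neg_of_add_eq_zero_right hι
  let K0 := {c : F // c ^ q = c}
  have hK0 : Nat.card K0 = q := card_fixed hF
  have hyz : ho q y z ≠ 0 := by
    intro h0
    have h0' : ho q z y = 0 := by rw [ho_swap hF y z, h0, zero_pow_q hF]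
    apply hdet
    rw [h0, h0']; ring
  have hzy : ho q z y ≠ 0 := fun h0 => hyz (by rw [ho_swap hF z y, h0, zero_pow_q hF])
  let σ : K0 → F := fun s => ι * s.1 / ho q z y
  have hσ : ∀ s, σ s * ho q z y = ι * s.1 := fun s => div_mul_cancel₀ _ hzy
  have hσ2 : ∀ s, σ s * ho q z y + σ s ^ q * ho q y z = 0 := by
    intro s
    have h1 : σ s ^ q * ho q y z = (σ s * ho q z y) ^ q := by rw [mul_pow, ← ho_swap hF z y]
    rw [h1, hσ, mul_pow, hιq, s.2]; ring
  let P : K0 → (Fin n → F) := fun s => y + σ s • z
  have hPiso : ∀ s, ho q (P s) (P s) = 0 := by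
    intro s
    change ho q (y + σ s • z) (y + σ s • z) = 0
    rw [ho_add_left, ho_add_right hF, ho_add_right hF, ho_smul_left, ho_smul_left, ho_smul_right, ho_smul_right,
      hyy, hzz]
    linear_combination hσ2 s
  have hPΔ : ∀ s, Δ (P s) := fun s => hline y z (σ s) hy hz hyz (hPiso s)
  have hxP : ∀ s, ho q x (P s) ≠ 0 := by
    intro s
    change ho q x (y + σ s • z) ≠ 0
    rw [ho_add_right hF, ho_smul_right]
    exact ho_line_ne hF hdet' (hσ2 s)
  have hPx : ∀ s, ho q (P s) x ≠ 0 := fun s h0 => hxP s (by rw [ho_swap hF (P s) x, h0, zero_pow_q hF])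
  let τ : K0 → K0 → F := fun s t => ι * t.1 / ho q x (P s)
  have hτ : ∀ s t, τ s t * ho q x (P s) = ι * t.1 := fun s t => div_mul_cancel₀ _ (hxP s)
  let pt : Option (K0 × K0) → (Fin n → F) := fun i => i.elim x fun a => P a.1 + τ a.1 a.2 • x
  have hptΔ : ∀ i, Δ (pt i) := by
    rintro (_ | ⟨s, t⟩)
    · exact hx
    · refine hline (P s) x (τ s t) (hPΔ s) hx (hPx s) ?_
      rw [ho_line_self hF (hPiso s) hxx]
      have h1 : τ s t ^ q * ho q (P s) x = (τ s t * ho q x (P s)) ^ q := by rw [mul_pow, ← ho_swap hF x (P s)]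
      rw [hτ, mul_pow, hιq, t.2] at h1
      linear_combination h1 + hτ s t
  have hptU : ∀ i, pt i ∈ U := by
    rintro (_ | ⟨s, t⟩)
    · exact hxU
    · exact U.add_mem (U.add_mem hyU (U.smul_mem _ hzU)) (U.smul_mem _ hxU)
  have hpar : ∀ i j (c : F), pt i = c • pt j → i = j := by
    rintro (_ | ⟨s, t⟩) (_ | ⟨s', t'⟩) c h
    · rfl
    · exfalso
      change x = c • (y + σ s' • z + τ s' t' • x) at h
      have h1 : (1 - c * τ s' t') • x + (-c) • y + (-(c * σ s')) • z = 0 := by
        rw [sub_smul, one_smul, neg_smul, neg_smul]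
        nth_rewrite 1 [h]
        rw [smul_add, smul_add, smul_smul, smul_smul]
        abel
      obtain ⟨h2, h3, h4⟩ := coef_zero' hxx hyy hzz hdet' h1
      rw [neg_eq_zero.1 h3, zero_mul, sub_zero] at h2
      exact one_ne_zero h2
    · exfalso
      change y + σ s • z + τ s t • x = c • x at h
      have h1 : (τ s t - c) • x + (1 : F) • y + σ s • z = 0 := by
        rw [sub_smul, ← h, one_smul]
        abel
      exact one_ne_zero (coef_zero' hxx hyy hzz hdet' h1).2.1
    · change y + σ s • z + τ s t • x = c • (y + σ s' • z + τ s' t' • x) at h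
      have h1 : (τ s t - c * τ s' t') • x + (1 - c) • y + (σ s - c * σ s') • z = 0 := by
        have h2 : (τ s t - c * τ s' t') • x + (1 - c) • y + (σ s - c * σ s') • z =
            (y + σ s • z + τ s t • x) - c • (y + σ s' • z + τ s' t' • x) := by
          rw [smul_add, smul_add, smul_smul, smul_smul, sub_smul, sub_smul, sub_smul, one_smul]
          abel
        rw [h2, h, sub_self]
      obtain ⟨h2, h3, h4⟩ := coef_zero' hxx hyy hzz hdet' h1
      have hc : c = 1 := (sub_eq_zero.1 h3).symm
      subst hc
      rw [one_mul, sub_eq_zero] at h2 h4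
      have hs : s = s' := by
        apply Subtype.ext
        have h5 := hσ s
        rw [h4, hσ s'] at h5
        exact (mul_left_cancel₀ hι0 h5).symm
      subst hs
      have ht : t = t' := by
        apply Subtype.ext
        have h5 := hτ s t
        rw [h2, hτ s t'] at h5
        exact (mul_left_cancel₀ hι0 h5).symm
      rw [ht]
  have hptw : ∀ i, ho q (pt i) w ≠ 0 := by
    intro i h0
    obtain ⟨α, hα⟩ := lemS _ (hptU i) (hiso _ (hptΔ i)).2 h0
    have hα0 : α ≠ 0 := by
      rintro rfl
      exact (hiso _ (hptΔ i)).1 (by rw [hα, zero_smul])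
    exact hcw α hα0 (hα ▸ hptΔ i)
  let Φ : Option (K0 × K0) → F := fun i => ho q (pt i) e / ho q (pt i) w
  have hΦ : Function.Injective Φ := by
    intro i j hij
    have h1 : ho q (pt j) w * ho q (pt i) e - ho q (pt i) w * ho q (pt j) e = 0 := by
      have h2 : ho q (pt i) e / ho q (pt i) w = ho q (pt j) e / ho q (pt j) w := hij
      rw [div_eq_div_iff (hptw i) (hptw j)] at h2
      linear_combination h2
    set A := ho q (pt j) w with hA
    set B := ho q (pt i) w with hB
    have hA0 : A ≠ 0 := hptw j
    have hB0 : B ≠ 0 := hptw i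
    obtain ⟨s, hs⟩ := lemR (A • pt i - B • pt j) (U.sub_mem (U.smul_mem _ (hptU i)) (U.smul_mem _ (hptU j)))
      (by rw [ho_sub_left, ho_smul_left, ho_smul_left, ← hA, ← hB]; ring)
      (by rw [ho_sub_left, ho_smul_left, ho_smul_left]; exact h1)
    by_cases hs0 : s = 0
    · rw [hs0, zero_smul, sub_eq_zero] at hs
      apply hpar i j (A⁻¹ * B)
      rw [mul_smul, ← hs, smul_smul, inv_mul_cancel₀ hA0, one_smul]
    · exfalso
      have h2 : ho q (pt i) (pt j) ≠ 0 := by
        intro h0
        have h3 := congrArg (fun v => ho q v (pt j)) hs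
        simp only [ho_sub_left, ho_smul_left] at h3
        rw [h0, (hiso _ (hptΔ j)).2, mul_zero, mul_zero, sub_zero] at h3
        have h4 : ho q w (pt j) = 0 := (mul_eq_zero.1 h3.symm).resolve_left hs0
        apply hptw j
        rw [ho_swap hF w (pt j), h4, zero_pow_q hF]
      have h3 : pt i + (-(A⁻¹ * B)) • pt j = (A⁻¹ * s) • w := by
        rw [mul_smul A⁻¹ s, ← hs, smul_sub, smul_smul, inv_mul_cancel₀ hA0, one_smul, neg_smul, ← sub_eq_add_neg,
          mul_smul]
      refine hcw (A⁻¹ * s) (mul_ne_zero (inv_ne_zero hA0) hs0) ?_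
      rw [← h3]
      refine hline _ _ _ (hptΔ i) (hptΔ j) h2 ?_
      rw [h3, ho_smul_left, ho_smul_right, hww, mul_zero, mul_zero]
  have h1 := Nat.card_le_card_of_injective Φ hΦ
  have h2 : Nat.card (Option (K0 × K0)) = q ^ 2 + 1 := by
    rw [Finite.card_option, Nat.card_prod, hK0, pow_two]
  rw [h2, Nat.card_eq_fintype_card, hF] at h1
  omega

end Cfsg.Agent.H683.OddM
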